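import Mathlib
import Groth.Prelude.Def_Magnet4

/-!
# helper18: translations of `T₀ ⊗ Z` by a `T₀`-point of an acting monoid (for S18959)
-/

set_option autoImplicit false
universe u v

open CategoryTheory CategoryTheory.Limits MonoidalCategory CartesianMonoidalCategory MonObj
open Magnet

namespace Groth.Agent.Lib.Helper18.AffLine

variable {C : Type u} [Category.{v} C] [CartesianMonoidalCategory C] {A : C} [MonObj A]

/-- `(s, z) ↦ θ(s) • z`. -/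
def rho {T₀ Z : C} (c : MonAct A Z) (θ : T₀ ⟶ A) : T₀ ⊗ Z ⟶ Z :=
  lift (fst T₀ Z ≫ θ) (snd T₀ Z) ≫ c.act

/-- `(s, z) ↦ (s, θ(s) • z)`. -/
def tau {T₀ Z : C} (c : MonAct A Z) (θ : T₀ ⟶ A) : T₀ ⊗ Z ⟶ T₀ ⊗ Z :=
  lift (fst T₀ Z) (rho c θ)

@[reassoc (attr := simp)]
theorem tau_fst {T₀ Z : C} (c : MonAct A Z) (θ : T₀ ⟶ A) : tau c θ ≫ fst T₀ Z = fst T₀ Z := by
  rw [tau, lift_fst]

@[reassoc (attr := simp)]
theorem tau_snd {T₀ Z : C} (c : MonAct A Z) (θ : T₀ ⟶ A) : tau c θ ≫ snd T₀ Z = rho c θ := by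
  rw [tau, lift_snd]

/-- on points: `(s, z) ↦ θ(s) • z`. -/
@[reassoc]
theorem lift_rho {T₀ Z T : C} (c : MonAct A Z) (θ : T₀ ⟶ A) (s : T ⟶ T₀) (z : T ⟶ Z) :
    lift s z ≫ rho c θ = lift (s ≫ θ) z ≫ c.act := by
  rw [rho, comp_lift_assoc, lift_fst_assoc, lift_snd]

@[reassoc]
theorem lift_tau {T₀ Z T : C} (c : MonAct A Z) (θ : T₀ ⟶ A) (s : T ⟶ T₀) (z : T ⟶ Z) :
    lift s z ≫ tau c θ = lift s (lift (s ≫ θ) z ≫ c.act) := by
  rw [tau, comp_lift, lift_fst, lift_rho]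

theorem tau_one {T₀ Z : C} (c : MonAct A Z) : tau c (1 : T₀ ⟶ A) = 𝟙 (T₀ ⊗ Z) := by
  apply hom_ext_lift₂
  intro T s z
  rw [lift_tau, MonObj.comp_one, c.lift_one_act, Category.comp_id]

theorem tau_mul {T₀ Z : C} (c : MonAct A Z) (θ θ' : T₀ ⟶ A) :
    tau c θ' ≫ tau c θ = tau c (θ * θ') := by
  apply hom_ext_lift₂
  intro T s z
  rw [lift_tau_assoc, lift_tau, lift_tau, MonObj.comp_mul, c.lift_mul_act]

theorem tau_pow {T₀ Z : C} (c : MonAct A Z) (θ θ' : T₀ ⟶ A) (h : θ * θ' = 1) (h' : θ' * θ = 1)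
    (n : ℕ) : tau c (θ' ^ n) ≫ tau c (θ ^ n) = 𝟙 (T₀ ⊗ Z) := by
  have hc : Commute θ θ' := by rw [Commute, SemiconjBy, h, h']
  rw [tau_mul, ← hc.mul_pow, h, one_pow, tau_one]

/-- `tau c (θ ^ n)` is an isomorphism when `θ` is invertible. -/
def tauIso {T₀ Z : C} (c : MonAct A Z) (θ θ' : T₀ ⟶ A) (h : θ * θ' = 1) (h' : θ' * θ = 1)
    (n : ℕ) : T₀ ⊗ Z ≅ T₀ ⊗ Z where
  hom := tau c (θ ^ n)
  inv := tau c (θ' ^ n)
  hom_inv_id := tau_pow c θ' θ h' h n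
  inv_hom_id := tau_pow c θ θ' h h' n

/-- an equivariant map commutes with the translations. -/
theorem tau_whiskerLeft {T₀ X Y : C} (a : MonAct A X) (b : MonAct A Y) (f : X ⟶ Y)
    (hf : MonAct.IsEquivariant a b f) (θ : T₀ ⟶ A) :
    tau a θ ≫ (T₀ ◁ f) = (T₀ ◁ f) ≫ tau b θ := by
  apply hom_ext_lift₂
  intro T s z
  rw [lift_tau_assoc, lift_whiskerLeft, lift_whiskerLeft_assoc, lift_tau, Category.assoc]
  congr 1
  exact (MonAct.isEquivariant_iff a b f).mp hf T (s ≫ θ) z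

end Groth.Agent.Lib.Helper18.AffLine
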