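import Mathlib
import Groth.Prelude.Def_Magnet4

/-!
# helper18: `X ×_Y X` as an object over `S` (for S18959)
-/

set_option autoImplicit false
universe u

open CategoryTheory CategoryTheory.Limits AlgebraicGeometry

namespace Groth.Agent.Lib.Helper18.AffLine

variable {S : Scheme.{u}} {X Y : Over S} (f : X ⟶ Y)

/-- `X ×_Y X` over `S`. -/
noncomputable def PO : Over S := Over.mk (pullback.fst f.left f.left ≫ X.hom)

noncomputable def pr1 : PO f ⟶ X := Over.homMk (pullback.fst f.left f.left) rfl

noncomputable def pr2 : PO f ⟶ X := Over.homMk (pullback.snd f.left f.left) (by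
  change pullback.snd f.left f.left ≫ X.hom = pullback.fst f.left f.left ≫ X.hom
  rw [← Over.w f, ← Category.assoc, ← Category.assoc, pullback.condition])

noncomputable def diagO : X ⟶ PO f := Over.homMk (pullback.diagonal f.left) (by
  change pullback.diagonal f.left ≫ pullback.fst f.left f.left ≫ X.hom = X.hom
  rw [pullback.diagonal_fst_assoc])

theorem diagO_left : (diagO f).left = pullback.diagonal f.left := rfl

theorem pr1_left : (pr1 f).left = pullback.fst f.left f.left := rfl

theorem pr2_left : (pr2 f).left = pullback.snd f.left f.left := rfl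

theorem pr_condition : pr1 f ≫ f = pr2 f ≫ f := by
  ext1
  exact pullback.condition

theorem diagO_pr1 : diagO f ≫ pr1 f = 𝟙 X := by
  ext1
  exact pullback.diagonal_fst f.left

theorem diagO_pr2 : diagO f ≫ pr2 f = 𝟙 X := by
  ext1
  exact pullback.diagonal_snd f.left

/-- morphisms into `PO f` are determined by their two components. -/
theorem PO_hom_ext {T : Over S} {p q : T ⟶ PO f} (h1 : p ≫ pr1 f = q ≫ pr1 f)
    (h2 : p ≫ pr2 f = q ≫ pr2 f) : p = q := by
  ext1
  apply pullback.hom_ext
  · exact congrArg CommaMorphism.left h1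
  · exact congrArg CommaMorphism.left h2

/-- the morphism into `PO f` with given components. -/
noncomputable def POlift {T : Over S} (x₁ x₂ : T ⟶ X) (h : x₁ ≫ f = x₂ ≫ f) : T ⟶ PO f :=
  Over.homMk (pullback.lift x₁.left x₂.left (congrArg CommaMorphism.left h)) (by
    change pullback.lift x₁.left x₂.left _ ≫ pullback.fst f.left f.left ≫ X.hom = T.hom
    rw [pullback.lift_fst_assoc, Over.w x₁])

theorem POlift_pr1 {T : Over S} (x₁ x₂ : T ⟶ X) (h : x₁ ≫ f = x₂ ≫ f) :
    POlift f x₁ x₂ h ≫ pr1 f = x₁ := by
  ext1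
  exact pullback.lift_fst _ _ _

theorem POlift_pr2 {T : Over S} (x₁ x₂ : T ⟶ X) (h : x₁ ≫ f = x₂ ≫ f) :
    POlift f x₁ x₂ h ≫ pr2 f = x₂ := by
  ext1
  exact pullback.lift_snd _ _ _

end Groth.Agent.Lib.Helper18.AffLine
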