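import Mathlib
import Groth.Prelude.Def_Magnet4
import Groth.Agent.Lib.Helper5.AMonPts
import Groth.Agent.Lib.Helper18.MonPts
import Groth.Agent.Lib.Helper18.AffLine.Defs
import Groth.Agent.Lib.Helper77.ALALG

set_option autoImplicit false
universe u

open CategoryTheory CategoryTheory.Limits MonoidalCategory CartesianMonoidalCategory MonObj
  AlgebraicGeometry Opposite
open Magnet Groth.Agent.Lib.Helper18.AffLine

namespace Groth.Agent.Lib.Helper18.AffLine.KL

open Groth.Agent.Lib.Helper5.AMonPts Groth.Agent.Lib.Helper18.MonPts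

section

variable {S : Scheme.{u}} {L : Type u} [Field L] (s₀ : Spec (CommRingCat.of L) ⟶ S)

/-- the affine line over `L`, over `S`. -/
noncomputable def lineS : Spec (CommRingCat.of (Polynomial L)) ⟶ S :=
  Spec.map (CommRingCat.ofHom (Polynomial.C : L →+* Polynomial L)) ≫ s₀

noncomputable def linePi : Over.mk (lineS s₀) ⟶ Over.mk s₀ :=
  Over.homMk (Spec.map (CommRingCat.ofHom (Polynomial.C : L →+* Polynomial L))) rfl

noncomputable def lineEv (l : L) : Over.mk s₀ ⟶ Over.mk (lineS s₀) :=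
  Over.homMk (Spec.map (CommRingCat.ofHom (Polynomial.evalRingHom l))) (by
    change Spec.map (CommRingCat.ofHom (Polynomial.evalRingHom l)) ≫
      Spec.map (CommRingCat.ofHom (Polynomial.C : L →+* Polynomial L)) ≫ s₀ = s₀
    rw [← Category.assoc, ← Spec.map_comp, ← CommRingCat.ofHom_comp]
    have : (Polynomial.evalRingHom l).comp (Polynomial.C : L →+* Polynomial L) = RingHom.id L := by
      ext; simp
    rw [this]
    simp)

theorem lineEv_pi (l : L) : lineEv s₀ l ≫ linePi s₀ = 𝟙 _ := by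
  ext1
  change Spec.map (CommRingCat.ofHom (Polynomial.evalRingHom l)) ≫
      Spec.map (CommRingCat.ofHom (Polynomial.C : L →+* Polynomial L)) = 𝟙 _
  rw [← Spec.map_comp, ← CommRingCat.ofHom_comp]
  have : (Polynomial.evalRingHom l).comp (Polynomial.C : L →+* Polynomial L) = RingHom.id L := by
    ext; simp
  rw [this]
  simp

/-- the universal point of the affine line. -/
noncomputable def lineLam : Over.mk (lineS s₀) ⟶ AMonS S ℕ :=
  ptc (lineS s₀) (powersHom (Polynomial L) (Polynomial.X : Polynomial L))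

/-- the `L`-point of `A^1` attached to `l`. -/
noncomputable def ptL (l : L) : Over.mk s₀ ⟶ AMonS S ℕ := ptc s₀ (powersHom L l)

theorem lineEv_lam (l : L) : lineEv s₀ l ≫ lineLam s₀ = ptL s₀ l := by
  apply chr_injective
  rw [chr_comp (Polynomial.evalRingHom l) (lineEv s₀ l) rfl, lineLam, chr_ptc, ptL, chr_ptc]
  refine MonoidHom.ext fun m => ?_
  simp [powersHom]

theorem eq_ptL (g : Over.mk s₀ ⟶ AMonS S ℕ) : g = ptL s₀ (chr g (Multiplicative.ofAdd 1)) := by
  apply chr_injective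
  rw [ptL, chr_ptc]
  have key : ∀ n : ℕ, chr g (Multiplicative.ofAdd n) =
      powersHom L (chr g (Multiplicative.ofAdd 1)) (Multiplicative.ofAdd n) := by
    intro n
    rw [powersHom_apply]
    have : (Multiplicative.ofAdd n : Multiplicative ℕ) = (Multiplicative.ofAdd 1) ^ n := by
      rw [← ofAdd_nsmul]; simp
    rw [toAdd_ofAdd]
    conv_lhs => rw [this, map_pow]
  exact MonoidHom.ext fun m => key (Multiplicative.toAdd m)

/-- the point `0 • x` is fixed. -/
theorem ptL_zero_fixed {Z : Over S} (c : MonAct (AMonS S ℕ) Z) (x : Over.mk s₀ ⟶ Z)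
    (T' : Over S) (t : T' ⟶ Over.mk s₀) (g : T' ⟶ AMonS S ℕ) :
    lift g (t ≫ lift (ptL s₀ 0) x ≫ c.act) ≫ c.act = t ≫ lift (ptL s₀ 0) x ≫ c.act := by
  have h1 : t ≫ lift (ptL s₀ 0) x ≫ c.act = lift (t ≫ ptL s₀ 0) (t ≫ x) ≫ c.act := by
    rw [← Category.assoc, comp_lift]
  have h2 : g * (t ≫ ptL s₀ 0) = t ≫ ptL s₀ 0 := by
    apply monHomOfPt_injective
    rw [monHomOfPt_mul]
    suffices key : ∀ n : ℕ, (monHomOfPt g * monHomOfPt (t ≫ ptL s₀ 0)) (Multiplicative.ofAdd n) =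
        monHomOfPt (t ≫ ptL s₀ 0) (Multiplicative.ofAdd n) from
      MonoidHom.ext fun m => key (Multiplicative.toAdd m)
    intro n
    rw [MonoidHom.mul_apply, monHomOfPt_comp]
    rcases Nat.eq_zero_or_pos n with rfl | hn
    · have : (Multiplicative.ofAdd 0 : Multiplicative ℕ) = 1 := rfl
      rw [this, map_one, map_one, _root_.one_mul]
    · have h0 : monHomOfPt (ptL s₀ 0) (Multiplicative.ofAdd n) = 0 := by
        rw [ptL, ptc, monHomOfPt_ptOfMonHom]
        change (Scheme.ΓSpecIso (CommRingCat.of L)).inv.hom (powersHom L (0 : L) (Multiplicative.ofAdd n)) = 0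
        rw [powersHom_apply]
        simp [zero_pow hn.ne']
      change monHomOfPt g _ * (t.left.appTop (monHomOfPt (ptL s₀ 0) (Multiplicative.ofAdd n))) =
        t.left.appTop (monHomOfPt (ptL s₀ 0) (Multiplicative.ofAdd n))
      rw [h0, map_zero, mul_zero]
  rw [h1, ← c.lift_mul_act, h2]

end

theorem exists_pow_mem {S : Scheme.{u}} {T₀ Z : Over S} (c : MonAct (AMonS S ℕ) Z)
    (W : Z.left.Opens)
    (hW : ∀ (T : Over S) (x : (MonAct.fixedPsh c).obj (op T)), x.1.left ⁻¹ᵁ W = ⊤)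
    (θ : T₀ ⟶ AMonS S ℕ)
    (hθ : ∀ (L : Type u) [Field L] (s : Spec (CommRingCat.of L) ⟶ S) (u : Over.mk s ⟶ T₀),
      Function.Injective (fun n : ℕ => u ≫ θ ^ n))
    (ξ : (T₀ ⊗ Z).left) : ∃ n : ℕ, (rho c (θ ^ n)).left ξ ∈ W := by
  classical
  let P : Over S := T₀ ⊗ Z
  let Lt : Type u := P.left.residueField ξ
  let _ : Field Lt := inferInstanceAs (Field (P.left.residueField ξ))
  let s₀ : Spec (CommRingCat.of Lt) ⟶ S := P.left.fromSpecResidueField ξ ≫ P.hom
  let p : Over.mk s₀ ⟶ P := Over.homMk (P.left.fromSpecResidueField ξ) rfl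
  let u : Over.mk s₀ ⟶ T₀ := p ≫ fst _ _
  let x : Over.mk s₀ ⟶ Z := p ≫ snd _ _
  have hp : p = lift u x := (lift_comp_fst_snd p).symm
  let o : Over.mk (lineS s₀) ⟶ Z := lift (lineLam s₀) (linePi s₀ ≫ x) ≫ c.act
  let O : (Spec (CommRingCat.of (Polynomial Lt))).Opens := o.left ⁻¹ᵁ W
  have hev : ∀ l : Lt, lineEv s₀ l ≫ o = lift (ptL s₀ l) x ≫ c.act := by
    intro l
    rw [← Category.assoc, comp_lift, lineEv_lam, ← Category.assoc, lineEv_pi, Category.id_comp]
  have h0 : ∀ q, Spec.map (CommRingCat.ofHom (Polynomial.evalRingHom (0 : Lt))) q ∈ O := by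
    intro q
    change (lineEv s₀ (0 : Lt)).left q ∈ o.left ⁻¹ᵁ W
    have hfix := hW (Over.mk s₀) ⟨lift (ptL s₀ 0) x ≫ c.act, ptL_zero_fixed s₀ c x⟩
    have : q ∈ (lift (ptL s₀ 0) x ≫ c.act).left ⁻¹ᵁ W := by rw [hfix]; trivial
    rw [← hev] at this
    exact this
  let a : ℕ → Lt := fun n => chr (u ≫ θ ^ n) (Multiplicative.ofAdd 1)
  have ha : Function.Injective a := by
    intro n m hnm
    apply hθ Lt s₀ u
    change u ≫ θ ^ n = u ≫ θ ^ m
    rw [eq_ptL s₀ (u ≫ θ ^ n), eq_ptL s₀ (u ≫ θ ^ m)]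
    exact congrArg (ptL s₀) hnm
  obtain ⟨n, hn⟩ := Groth.Agent.Lib.Helper77.ALALG.exists_eval_mem_open Lt O h0 a ha
  refine ⟨n, ?_⟩
  have hq : p.left (default : PrimeSpectrum Lt) = ξ := Scheme.fromSpecResidueField_apply _ _
  have h1 := hn (default : PrimeSpectrum Lt)
  change (lineEv s₀ (a n)).left _ ∈ o.left ⁻¹ᵁ W at h1
  have h2 : lineEv s₀ (a n) ≫ o = p ≫ rho c (θ ^ n) := by
    rw [hev, hp, lift_rho, ← eq_ptL]
  have h3 : (lineEv s₀ (a n) ≫ o).left (default : PrimeSpectrum Lt) ∈ W := h1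
  rw [h2, Over.comp_left, Scheme.Hom.comp_apply, hq] at h3
  exact h3

end Groth.Agent.Lib.Helper18.AffLine.KL
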