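import Mathlib
import Groth.Prelude.Def_Magnet4
import Groth.Agent.Lib.Helper5.AMonPts
import Groth.Agent.Lib.Helper18.MonPts
import Groth.Agent.Lib.Helper18.AffLine.Defs
import Groth.Agent.Lib.Helper18.AffLine.Diag
import Groth.Agent.Lib.Helper18.AffLine.KL
import Groth.Agent.Lib.Helper34.ALFIELD
import Groth.Agent.Lib.Helper1.ALET
import Groth.Agent.Lib.Helper68.ALDESC
import Groth.Agent.Lib.Helper16.ALPFIX
import Groth.Agent.Lib.Helper16.ALSURJ
import Groth.Agent.Lib.Helper19.ALPACT

/-!
# helper18: assembly of S18959 (an `A^1`-equivariant morphism which is an isomorphism on fixed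
points and étale near the fixed points is an isomorphism)

Sub-lemmas by helper77 (ALG), helper34 (FIELD), helper1 / helper90 (ET), helper68 / helper81
(BC, DESC), helper16 (PFIX, SURJ), helper19 (PACT).
-/

set_option autoImplicit false
universe u

open CategoryTheory CategoryTheory.Limits MonoidalCategory CartesianMonoidalCategory MonObj
  AlgebraicGeometry Opposite
open Magnet Groth.Agent.Lib.Helper18.AffLine

namespace Groth.Agent.Lib.Helper18.AffLine.Main

open Groth.Agent.Lib.Helper18.AffLine.KL Groth.Agent.Lib.Helper34.ALFIELD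
  Groth.Agent.Lib.Helper1.ALET Groth.Agent.Lib.Helper68.ALDESC Groth.Agent.Lib.Helper16.ALPFIX
  Groth.Agent.Lib.Helper16.ALSURJ Groth.Agent.Lib.Helper19.ALPACT

/-! ### assembly -/

theorem main (k : Type u) [Field k]
    (X Y : Over (Spec (CommRingCat.of k)))
    (a : Magnet.MonAct (Magnet.AMonS (Spec (CommRingCat.of k)) ℕ) X)
    (b : Magnet.MonAct (Magnet.AMonS (Spec (CommRingCat.of k)) ℕ) Y)
    (f : X ⟶ Y) (hf : Magnet.MonAct.IsEquivariant a b f)
    (h1 : IsIso (Magnet.MonAct.fixedPsh.map f hf))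
    (V : X.left.Opens) [Etale (V.ι ≫ f.left)]
    (h3 : ∀ (T : Over (Spec (CommRingCat.of k))) (x : (Magnet.MonAct.fixedPsh a).obj (op T)),
      x.1.left ⁻¹ᵁ V = ⊤) :
    IsIso f := by
  obtain ⟨T₀, θ, θ', hθ1, hθ2, hfl, hsu, hqc, hθ⟩ := exists_generic k
  have hbij : ∀ T : (Over (Spec (CommRingCat.of k)))ᵒᵖ,
      Function.Bijective ((MonAct.fixedPsh.map f hf).app T) := by
    intro T
    have : IsIso ((MonAct.fixedPsh.map f hf).app T) := inferInstance
    exact (isIso_iff_bijective _).mp this
  -- étale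
  have hcovX : ∀ ξ : (T₀ ⊗ X).left, ∃ n : ℕ, (rho a (θ ^ n)).left ξ ∈ V :=
    exists_pow_mem a V h3 θ hθ
  have hetK : Etale (T₀ ◁ f).left := etale_whiskerLeft a b f hf V θ θ' hθ1 hθ2 hcovX
  have het : Etale f.left := etale_of_whiskerLeft f hetK
  -- surjective
  let W : Y.left.Opens := ⟨Set.range (V.ι ≫ f.left), (V.ι ≫ f.left).isOpenMap.isOpen_range⟩
  have hWf : (W : Set Y.left) ⊆ Set.range f.left := by
    rintro _ ⟨v, rfl⟩
    exact ⟨V.ι v, by rw [Scheme.Hom.comp_apply]⟩
  have hWfix : ∀ (T : Over (Spec (CommRingCat.of k))) (y : (MonAct.fixedPsh b).obj (op T)),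
      y.1.left ⁻¹ᵁ W = ⊤ := by
    intro T y
    obtain ⟨x, rfl⟩ := (hbij (op T)).2 y
    have hx := h3 T x
    ext t
    simp only [TopologicalSpace.Opens.coe_top, Set.mem_univ, iff_true]
    have ht : x.1.left t ∈ V := by
      have : t ∈ x.1.left ⁻¹ᵁ V := by rw [hx]; trivial
      exact this
    change ((MonAct.fixedPsh.map f hf).app (op T) x).1.left t ∈ Set.range (V.ι ≫ f.left)
    refine ⟨⟨x.1.left t, ht⟩, ?_⟩
    change _ = (x.1 ≫ f).left t
    rw [Over.comp_left, Scheme.Hom.comp_apply, Scheme.Hom.comp_apply]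
    rfl
  have hcovY := exists_pow_mem b W hWfix θ hθ
  have hsurjK : Surjective (T₀ ◁ f).left :=
    surjective_whiskerLeft a b f hf θ θ' hθ1 hθ2 W hWf hcovY
  have hsurj : Surjective f.left := surjective_of_whiskerLeft f hsurjK
  -- mono
  obtain ⟨c, hc1, hc2, hcd⟩ := exists_act f a b hf
  have hoi : IsOpenImmersion (pullback.diagonal f.left) := inferInstance
  let WP : (PO f).left.Opens := (pullback.diagonal f.left).opensRange
  have hWP : ∀ (T : Over (Spec (CommRingCat.of k))) (p : (MonAct.fixedPsh c).obj (op T)),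
      p.1.left ⁻¹ᵁ WP = ⊤ := by
    intro T p
    ext t
    simp only [TopologicalSpace.Opens.coe_top, Set.mem_univ, iff_true]
    exact fixed_range_subset f a b hf c hc1 hc2 (fun T => (hbij T).1) T p ⟨t, rfl⟩
  have hcovP := exists_pow_mem c WP hWP θ hθ
  have hdK : Surjective (T₀ ◁ diagO f).left :=
    surjective_whiskerLeft a c (diagO f) hcd θ θ' hθ1 hθ2 WP (fun _ h => h) hcovP
  have hd : Surjective (pullback.diagonal f.left) := surjective_of_whiskerLeft (diagO f) hdK
  have hdiso : IsIso (pullback.diagonal f.left) := by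
    apply isIso_of_isOpenImmersion_of_opensRange_eq_top
    ext p
    simp only [TopologicalSpace.Opens.coe_top, Set.mem_univ, iff_true]
    exact hd.surj p
  have hmono : Mono f.left := (pullback.isIso_diagonal_iff f.left).mp hdiso
  have hopen : IsOpenImmersion f.left := IsOpenImmersion.of_flat_of_mono f.left
  have hiso : IsIso f.left := by
    apply isIso_of_isOpenImmersion_of_opensRange_eq_top
    ext p
    simp only [TopologicalSpace.Opens.coe_top, Set.mem_univ, iff_true]
    exact hsurj.surj p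
  have : IsIso ((Over.forget (Spec (CommRingCat.of k))).map f) := hiso
  exact isIso_of_reflects_iso f (Over.forget _)

end Groth.Agent.Lib.Helper18.AffLine.Main
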